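import Groth.Agent.Lib.UnramLoc9.Field
import Groth.Agent.Lib.LocProp.StalkField
import Mathlib.AlgebraicGeometry.Morphisms.FiniteType
import Mathlib.Algebra.DualNumber

/-!
# Unramified over an algebraically closed field: dual number points
-/

set_option autoImplicit false
set_option linter.style.haveILetI false
set_option backward.isDefEq.respectTransparency false

universe u

open AlgebraicGeometry CategoryTheory Limits TopologicalSpace

noncomputable section

namespace GrothLib.UnramLoc9

theorem hom_ext_of_thickening {X Y T T₀ : Scheme.{u}} (f : X ⟶ Y) [LocallyOfFiniteType f] [FormallyUnramified f]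
    (i : T₀ ⟶ T) [Surjective i] (v₁ v₂ : T ⟶ X) (h : v₁ ≫ f = v₂ ≫ f) (hi : i ≫ v₁ = i ≫ v₂) : v₁ = v₂ := by
  let v : T ⟶ pullback f f := pullback.lift v₁ v₂ h
  have hv : i ≫ v = (i ≫ v₁) ≫ pullback.diagonal f := by
    apply pullback.hom_ext <;> simp [v, hi]
  have hr : Set.range v ⊆ Set.range (pullback.diagonal f) := by
    rintro _ ⟨t, rfl⟩
    obtain ⟨t₀, rfl⟩ := i.surjective t
    refine ⟨(i ≫ v₁) t₀, ?_⟩
    rw [← Scheme.Hom.comp_apply, ← hv]
    rfl
  have h1 := IsOpenImmersion.lift_fac (pullback.diagonal f) v hr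
  have e1 : IsOpenImmersion.lift (pullback.diagonal f) v hr = v₁ := by
    have := congrArg (fun m => m ≫ pullback.fst f f) h1
    simp only [v, Category.assoc, pullback.diagonal_fst, Category.comp_id, pullback.lift_fst] at this
    exact this
  have e2 : IsOpenImmersion.lift (pullback.diagonal f) v hr = v₂ := by
    have := congrArg (fun m => m ≫ pullback.snd f f) h1
    simp only [v, Category.assoc, pullback.diagonal_snd, Category.comp_id, pullback.lift_snd] at this
    exact this
  exact e1.symm.trans e2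

/-- Over an algebraically closed field unramified means dual number points are determined by their base point. -/
theorem unramified_iff_dualNumber (k : Type u) [Field k] [IsAlgClosed k]
    {X : Scheme.{u}} (p : X ⟶ Spec (CommRingCat.of k)) [LocallyOfFiniteType p] :
    FormallyUnramified p ↔
      ∀ v₁ v₂ : Spec (CommRingCat.of (DualNumber k)) ⟶ X,
        v₁ ≫ p = Spec.map (CommRingCat.ofHom (algebraMap k (DualNumber k))) →
        v₂ ≫ p = Spec.map (CommRingCat.ofHom (algebraMap k (DualNumber k))) →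
        Spec.map (CommRingCat.ofHom (TrivSqZeroExt.fstHom k k k).toRingHom) ≫ v₁ =
          Spec.map (CommRingCat.ofHom (TrivSqZeroExt.fstHom k k k).toRingHom) ≫ v₂ →
        v₁ = v₂ := by
  constructor
  · intro h v₁ v₂ h₁ h₂ h12
    haveI : Surjective (Spec.map (CommRingCat.ofHom (TrivSqZeroExt.fstHom k k k).toRingHom)) := by
      refine ⟨fun q => ⟨IsLocalRing.closedPoint k, PrimeSpectrum.ext ?_⟩⟩
      have hker : RingHom.ker (TrivSqZeroExt.fstHom k k k).toRingHom ≤ q.asIdeal := fun z hz => by
        refine q.isPrime.mem_of_pow_mem 2 ?_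
        have hz' : TrivSqZeroExt.fst z = 0 := hz
        rw [show z ^ 2 = 0 by
          rw [sq]; exact TrivSqZeroExt.ext (by simp [hz']) (by simp [hz'])]
        exact zero_mem _
      haveI : (RingHom.ker (TrivSqZeroExt.fstHom k k k).toRingHom).IsMaximal :=
        RingHom.ker_isMaximal_of_surjective _ fun a => ⟨TrivSqZeroExt.inl a, rfl⟩
      refine Eq.trans ?_ (Ideal.IsMaximal.eq_of_le inferInstance q.isPrime.ne_top hker)
      show Ideal.comap (TrivSqZeroExt.fstHom k k k).toRingHom (IsLocalRing.maximalIdeal k) = _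
      rw [IsLocalRing.maximalIdeal_eq_bot, ← RingHom.ker_eq_comap_bot]
    exact hom_ext_of_thickening p (Spec.map (CommRingCat.ofHom (TrivSqZeroExt.fstHom k k k).toRingHom))
      v₁ v₂ (h₁.trans h₂.symm) h12
  intro H
  haveI : JacobsonSpace (Spec (CommRingCat.of k)) := inferInstance
  haveI : JacobsonSpace X := LocallyOfFiniteType.jacobsonSpace p
  let G : Set X := {x | (p.stalkMap x).hom.FormallyUnramified}
  have hGopen : IsOpen G := isOpen_iff_forall_mem_open.mpr fun x hx => by
    obtain ⟨U, hxU, hU⟩ := (LocProp.formallyUnramified_nhd_iff p x).mpr hx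
    exact ⟨U, fun y hy => (LocProp.formallyUnramified_nhd_iff p y).mp ⟨U, hy, hU⟩, U.2, hxU⟩
  suffices hcl : closedPoints X ⊆ G by
    refine formallyUnramified_of_forall_nhd p fun x => (LocProp.formallyUnramified_nhd_iff p x).mpr ?_
    by_contra hx
    obtain ⟨z, hz, hzc⟩ := nonempty_inter_closedPoints (X := X) (Z := Gᶜ) ⟨x, hx⟩
      hGopen.isClosed_compl.isLocallyClosed
    exact hz (hcl hzc)
  intro x hx
  obtain ⟨U, hU, hxU, -⟩ := exists_isAffineOpen_mem_and_subset (Opens.mem_top x)
  letI := fieldAlg p U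
  have hb : Function.Bijective (Scheme.ΓSpecIso (CommRingCat.of k)).inv.hom :=
    ConcreteCategory.bijective_of_isIso _
  haveI : Algebra.FiniteType k Γ(X, U) :=
    (p.finiteType_appLE (isAffineOpen_top _) hU le_top).comp (RingHom.FiniteType.of_surjective _ hb.2)
  haveI : IsNoetherianRing Γ(X, U) := Algebra.FiniteType.isNoetherianRing k _
  let q := hU.primeIdealOf ⟨x, hxU⟩
  have hqcl : IsClosed ({q} : Set (Spec Γ(X, U))) := by
    have : ({q} : Set (Spec Γ(X, U))) = hU.fromSpec ⁻¹' {x} := by
      ext z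
      simp only [Set.mem_singleton_iff, Set.mem_preimage]
      exact ⟨fun h => h ▸ hU.fromSpec_primeIdealOf _, fun h => hU.fromSpec.isOpenEmbedding.injective
        (h.trans (hU.fromSpec_primeIdealOf ⟨x, hxU⟩).symm)⟩
    rw [this]
    exact (show IsClosed ({x} : Set X) from hx).preimage hU.fromSpec.continuous
  haveI hm : q.asIdeal.IsMaximal := (PrimeSpectrum.isClosed_singleton_iff_isMaximal q).mp hqcl
  letI : Field (Γ(X, U) ⧸ q.asIdeal) := Ideal.Quotient.field _
  haveI : Module.Finite k (Γ(X, U) ⧸ q.asIdeal) := finite_of_finite_type_of_isJacobsonRing k _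
  let e : k ≃ₐ[k] Γ(X, U) ⧸ q.asIdeal :=
    AlgEquiv.ofBijective (Algebra.ofId k _) IsAlgClosed.algebraMap_bijective_of_isIntegral
  let χ : Γ(X, U) →ₐ[k] k := e.symm.toAlgHom.comp (Ideal.Quotient.mkₐ k q.asIdeal)
  have hχ : ∀ a, χ a = 0 ↔ a ∈ q.asIdeal := fun a => by
    show e.symm (Ideal.Quotient.mk q.asIdeal a) = 0 ↔ _
    rw [map_eq_zero_iff _ e.symm.injective, Ideal.Quotient.eq_zero_iff_mem]
  have hsq : q.asIdeal ≤ q.asIdeal ^ 2 := by
    by_contra hne
    obtain ⟨a, ha, ha2⟩ := SetLike.not_le_iff_exists.mp hne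
    let W := Submodule.restrictScalars k (q.asIdeal ^ 2 : Ideal Γ(X, U))
    obtain ⟨l, hl, hlW⟩ := Submodule.exists_dual_map_eq_bot_of_notMem (p := W) ha2 inferInstance
    let D : Γ(X, U) →ₗ[k] k := l - l.comp ((Algebra.linearMap k Γ(X, U)).comp χ.toLinearMap)
    have hD : ∀ a, D a = l (a - algebraMap k Γ(X, U) (χ a)) := fun a => by
      show l a - l (algebraMap k Γ(X, U) (χ a)) = _
      rw [map_sub]
    have hW : ∀ w ∈ q.asIdeal ^ 2, l w = 0 := fun w hw => by
      have : l w ∈ Submodule.map l W := ⟨w, hw, rfl⟩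
      rwa [hlW] at this
    have hmem : ∀ a, a - algebraMap k Γ(X, U) (χ a) ∈ q.asIdeal := fun a => by
      rw [← hχ, map_sub, AlgHom.commutes]
      exact sub_self _
    have hmul : ∀ a b, D (a * b) = χ a * D b + χ b * D a := fun a b => by
      rw [hD, hD, hD, ← smul_eq_mul (χ a) (l _), ← smul_eq_mul (χ b) (l _), ← map_smul l, ← map_smul l, ← map_add,
        ← sub_eq_zero, ← map_sub]
      refine hW _ ?_
      rw [map_mul, map_mul, Algebra.smul_def, Algebra.smul_def,
        show a * b - algebraMap k Γ(X, U) (χ a) * algebraMap k Γ(X, U) (χ b) -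
          (algebraMap k Γ(X, U) (χ a) * (b - algebraMap k Γ(X, U) (χ b)) +
            algebraMap k Γ(X, U) (χ b) * (a - algebraMap k Γ(X, U) (χ a))) =
          (a - algebraMap k Γ(X, U) (χ a)) * (b - algebraMap k Γ(X, U) (χ b)) by ring, pow_two]
      exact Ideal.mul_mem_mul (hmem a) (hmem b)
    have hD1 : D 1 = 0 := by rw [hD, map_one, map_one, sub_self, map_zero]
    let φ : Γ(X, U) →+* DualNumber k :=
      { toFun := fun a => TrivSqZeroExt.inl (χ a) + TrivSqZeroExt.inr (D a)
        map_one' := by rw [hD1, map_one, TrivSqZeroExt.inr_zero, add_zero, TrivSqZeroExt.inl_one]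
        map_mul' := fun a b => by
          refine TrivSqZeroExt.ext ?_ ?_
          · simp
          · simp [hmul]
            ring
        map_zero' := by simp
        map_add' := fun a b => by
          refine TrivSqZeroExt.ext ?_ ?_ <;> simp }
    let ψ : Γ(X, U) →+* DualNumber k := (TrivSqZeroExt.inlHom k k).comp χ.toRingHom
    have hp : ∀ η : Γ(X, U) →+* DualNumber k, (∀ c, η (algebraMap k Γ(X, U) c) = algebraMap k (DualNumber k) c) →
        (Spec.map (CommRingCat.ofHom η) ≫ hU.fromSpec) ≫ p =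
          Spec.map (CommRingCat.ofHom (algebraMap k (DualNumber k))) := fun η hη => by
      rw [Category.assoc, ← IsAffineOpen.SpecMap_appLE_fromSpec p (isAffineOpen_top _) hU (le_top : U ≤ p ⁻¹ᵁ ⊤),
        IsAffineOpen.fromSpec_top, Scheme.isoSpec_Spec_inv, ← Spec.map_comp, ← Spec.map_comp]
      congr 1
      exact CommRingCat.hom_ext (RingHom.ext fun c => hη c)
    have hDc : ∀ c : k, D (algebraMap k Γ(X, U) c) = 0 := fun c => by
      rw [hD, AlgHom.commutes]
      simp
    have h12 := H _ _
      (hp φ fun c => by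
        refine TrivSqZeroExt.ext ?_ ?_ <;> simp [φ, hDc, TrivSqZeroExt.algebraMap_eq_inl])
      (hp ψ fun c => by
        refine TrivSqZeroExt.ext ?_ ?_ <;> simp [ψ, TrivSqZeroExt.algebraMap_eq_inl])
      (by
        rw [← Category.assoc, ← Category.assoc, ← Spec.map_comp, ← Spec.map_comp]
        congr 2
        ext a
        simp [φ, ψ])
    rw [cancel_mono] at h12
    have h3 := congrArg (fun m : Γ(X, U) ⟶ CommRingCat.of (DualNumber k) => TrivSqZeroExt.snd (m.hom a))
      (Spec.map_injective h12)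
    have h4 : D a = 0 := by simpa [φ, ψ] using h3
    rw [hD, (hχ a).mpr ha, map_zero, sub_zero] at h4
    exact hl h4
  refine (LocProp.formallyUnramified_stalk_iff p x).mpr ?_
  letI : Algebra Γ(X, U) (X.presheaf.stalk x) := X.presheaf.algebra_section_stalk ⟨x, hxU⟩
  haveI : IsLocalization.AtPrime (X.presheaf.stalk x) q.asIdeal := hU.isLocalization_stalk ⟨x, hxU⟩
  haveI : IsNoetherianRing (X.presheaf.stalk x) := IsLocalization.isNoetherianRing q.asIdeal.primeCompl _ inferInstance
  have hmax : IsLocalRing.maximalIdeal (X.presheaf.stalk x) = ⊥ := by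
    refine Submodule.eq_bot_of_le_smul_of_le_jacobson_bot (IsLocalRing.maximalIdeal _) _
      (IsNoetherian.noetherian _) ?_ (IsLocalRing.maximalIdeal_le_jacobson ⊥)
    rw [smul_eq_mul, ← pow_two, ← IsLocalization.AtPrime.map_eq_maximalIdeal q.asIdeal (X.presheaf.stalk x),
      ← Ideal.map_pow]
    exact Ideal.map_mono hsq
  refine ⟨?_, ?_⟩
  · rw [hmax]
    have : IsLocalRing.maximalIdeal (X.presheaf.stalk x) = ⊥ := hmax
    refine eq_bot_iff.mpr ?_
    rw [← this]
    exact ((IsLocalRing.local_hom_TFAE (p.stalkMap x).hom).out 0 2 rfl rfl).mp inferInstance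
  · letI := (p.residueFieldMap x).hom.toAlgebra
    have hsurj : Function.Surjective (algebraMap ((Spec (CommRingCat.of k)).residueField (p x)) (X.residueField x)) := by
      intro z
      obtain ⟨s, rfl⟩ := IsLocalRing.residue_surjective z
      obtain ⟨⟨a, t⟩, ht⟩ := IsLocalization.surj q.asIdeal.primeCompl s
      obtain ⟨c, hc⟩ := e.surjective (Ideal.Quotient.mk q.asIdeal a)
      obtain ⟨c', hc'⟩ := e.surjective (Ideal.Quotient.mk q.asIdeal t.1)
      refine ⟨(Spec (CommRingCat.of k)).evaluation ⊤ (p x) trivial ((Scheme.ΓSpecIso (CommRingCat.of k)).inv (c / c')), ?_⟩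
      show (p.residueFieldMap x).hom _ = _
      rw [← CommRingCat.comp_apply, Scheme.evaluation_naturality]
      have hev : ∀ b ∈ q.asIdeal, IsLocalRing.residue (X.presheaf.stalk x)
          (algebraMap Γ(X, U) (X.presheaf.stalk x) b) = 0 := fun b hb =>
        (IsLocalRing.residue_eq_zero_iff _).mpr
          ((IsLocalization.AtPrime.to_map_mem_maximal_iff _ q.asIdeal b).mpr hb)
      let r : Γ(X, U) →+* IsLocalRing.ResidueField (X.presheaf.stalk x) :=
        (IsLocalRing.residue (X.presheaf.stalk x)).comp (algebraMap Γ(X, U) (X.presheaf.stalk x))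
      have hr : ∀ b d : k, ∀ y : Γ(X, U), b = d → e b = Ideal.Quotient.mk q.asIdeal y →
          r (algebraMap k Γ(X, U) d) = r y := fun b d y hbd hb => by
        subst hbd
        rw [← sub_eq_zero, ← map_sub]
        refine hev _ ?_
        rw [← Ideal.Quotient.eq_zero_iff_mem, map_sub, ← hb, sub_eq_zero]
        rfl
      have hc0 : c' ≠ 0 := fun h0 => t.2 (show t.1 ∈ q.asIdeal by
        rw [← Ideal.Quotient.eq_zero_iff_mem, ← hc', h0, map_zero])
      have key : r (algebraMap k Γ(X, U) (c / c')) * r t.1 = r a := by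
        rw [← hr c' c' t.1 rfl hc', ← map_mul, ← map_mul, div_mul_cancel₀ _ hc0]
        exact hr c c a rfl hc
      have hrt : r t.1 ≠ 0 := fun h0 => t.2 ((IsLocalization.AtPrime.to_map_mem_maximal_iff _ q.asIdeal t.1).mp
        ((IsLocalRing.residue_eq_zero_iff _).mp h0))
      have h2 : IsLocalRing.residue (X.presheaf.stalk x) s * r t.1 = r a := by
        show _ * IsLocalRing.residue _ (algebraMap Γ(X, U) _ t.1) = _
        rw [← map_mul, ht]
        rfl
      refine Eq.trans ?_ (mul_right_cancel₀ hrt (key.trans h2.symm))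
      show (X.evaluation (p ⁻¹ᵁ ⊤) x trivial) ((p.app ⊤) ((Scheme.ΓSpecIso (CommRingCat.of k)).inv (c / c'))) =
        IsLocalRing.residue _ (X.presheaf.germ U x hxU ((p.appLE ⊤ U le_top) _))
      rw [Scheme.Hom.appLE, CommRingCat.comp_apply, TopCat.Presheaf.germ_res_apply]
      rfl
    refine ⟨Module.Finite.of_surjective (Algebra.linearMap _ _) hsurj, ⟨fun z => ?_⟩⟩
    obtain ⟨w, rfl⟩ := hsurj z
    exact isSeparable_algebraMap w

end GrothLib.UnramLoc9
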