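import Groth.Agent.Lib.LocProp.BaseChangeDescent
import Groth.Agent.Lib.FibreLocus.SmoothPoint
import Mathlib.AlgebraicGeometry.Morphisms.Flat

/-!
# The smooth locus and base change
-/

set_option autoImplicit false
set_option linter.style.haveILetI false
set_option backward.isDefEq.respectTransparency false

universe u

namespace GrothLib.UnramLoc9

open AlgebraicGeometry CategoryTheory Limits GrothLib.LocProp

variable {X S S' : Scheme.{u}}

theorem stalk_flat_of_field {K L : CommRingCat.{u}} (hK : IsField K) (φ : K ⟶ L) (z : Spec L) :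
    ((Spec.map φ).stalkMap z).hom.Flat := by
  letI := hK.toField
  letI := φ.hom.toAlgebra
  have : φ.hom.Flat := (inferInstance : Module.Flat K L)
  haveI : Flat (Spec.map φ) := (HasRingHomProperty.Spec_iff (P := @Flat)).mpr this
  exact Flat.stalkMap _ _

/-- For flat morphisms smoothness at a point descends along every base change. -/
theorem smooth_nhd_of_baseChange_of_flat (f : X ⟶ S) [Flat f] [LocallyOfFinitePresentation f] (g : S' ⟶ S)
    (x' : ↑(pullback f g))
    (h : ∃ U' : (pullback f g).Opens, x' ∈ U' ∧ Smooth (U'.ι ≫ pullback.snd f g)) :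
    ∃ U : X.Opens, pullback.fst f g x' ∈ U ∧ Smooth (U.ι ≫ f) := by
  let x := pullback.fst f g x'
  let y' := pullback.snd f g x'
  have hxy : f x = g y' := by
    show f (pullback.fst f g x') = g (pullback.snd f g x')
    rw [← Scheme.Hom.comp_apply, pullback.condition, Scheme.Hom.comp_apply]
  let ρ : Spec (S'.residueField y') ⟶ Spec (S.residueField (g y')) := Spec.map (g.residueFieldMap y')
  let t := f.fiberToSpecResidueField (g y')
  have hw : (pullback.fst t ρ ≫ f.fiberι (g y')) ≫ f =
      (pullback.snd t ρ ≫ S'.fromSpecResidueField y') ≫ g := by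
    rw [Category.assoc, Category.assoc, Scheme.Hom.fiber_fac]
    show pullback.fst t ρ ≫ t ≫ _ = _
    rw [pullback.condition_assoc, Scheme.Hom.SpecMap_residueFieldMap_fromSpecResidueField]
  let m : pullback t ρ ⟶ pullback f g := pullback.lift (pullback.fst t ρ ≫ f.fiberι (g y'))
    (pullback.snd t ρ ≫ S'.fromSpecResidueField y') hw
  have hbig : IsPullback (pullback.fst t ρ ≫ f.fiberι (g y')) (pullback.snd t ρ) f
      (S'.fromSpecResidueField y' ≫ g) := by
    rw [← Scheme.Hom.SpecMap_residueFieldMap_fromSpecResidueField]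
    exact (IsPullback.of_hasPullback t ρ).paste_horiz (IsPullback.of_hasPullback f _)
  have hP : IsPullback m (pullback.snd t ρ) (pullback.snd f g) (S'.fromSpecResidueField y') :=
    IsPullback.of_right (h₁₁ := m) (h₁₂ := pullback.fst f g)
      (by rw [pullback.lift_fst]; exact hbig) (pullback.lift_snd _ _ _) (IsPullback.of_hasPullback f g)
  obtain ⟨z, hz1, -⟩ := Scheme.exists_preimage_of_isPullback hP x' default
    (Scheme.fromSpecResidueField_apply _ _).symm
  obtain hz := nhd_of_isPullback (W := @Smooth) hP z (hz1 ▸ h)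
  haveI : LocallyOfFinitePresentation t := MorphismProperty.pullback_snd _ _ inferInstance
  have hflat : (ρ.stalkMap (pullback.snd t ρ z)).hom.Flat :=
    stalk_flat_of_field (Semifield.toIsField _) (g.residueFieldMap y') _
  obtain ⟨W, hwW, hW⟩ := smooth_nhd_of_baseChange t ρ z hflat hz
  obtain ⟨O, hO, hOW⟩ := (f.fiberι (g y')).isEmbedding.isInducing.isOpen_iff.mp W.2
  let V : X.Opens := ⟨O, hO⟩
  have hwx : f.fiberι (g y') (pullback.fst t ρ z) = x := by
    rw [← Scheme.Hom.comp_apply, show pullback.fst t ρ ≫ f.fiberι (g y') = m ≫ pullback.fst f g from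
      (pullback.lift_fst _ _ _).symm, Scheme.Hom.comp_apply, hz1]
  have hxV : x ∈ V := by
    rw [← hwx]
    show pullback.fst t ρ z ∈ f.fiberι (g y') ⁻¹' O
    rw [hOW]; exact hwW
  have hsm : Smooth ((V.ι ≫ f).fiberToSpecResidueField (g y')) := by
    let j := f.fiberι (g y')
    have h2 : IsPullback ((j ⁻¹ᵁ V).ι ≫ t) (j ∣_ V) (S.fromSpecResidueField (g y')) (V.ι ≫ f) :=
      ((isPullback_morphismRestrict j V).flip).paste_horiz (IsPullback.of_hasPullback f _).flip
    have h3 : Smooth ((j ⁻¹ᵁ V).ι ≫ t) := by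
      have e : j ⁻¹ᵁ V = W := TopologicalSpace.Opens.ext hOW
      rw [e]; exact hW
    let φ := h2.flip.isoPullback
    have h4 : φ.hom ≫ (V.ι ≫ f).fiberToSpecResidueField (g y') = (j ⁻¹ᵁ V).ι ≫ t :=
      h2.flip.isoPullback_hom_snd
    rw [← h4] at h3
    exact (MorphismProperty.cancel_left_of_respectsIso @Smooth φ.hom _).mp h3
  have hv : (V.ι ≫ f) ⟨x, hxV⟩ = g y' := hxy
  obtain ⟨U, hxU, hU⟩ := FibreLocus.smooth_nhd_of_smooth_fibre (V.ι ≫ f) ⟨x, hxV⟩ (by rw [hv]; exact hsm)
  refine ⟨V.ι ''ᵁ U, ⟨⟨x, hxV⟩, hxU, rfl⟩, ?_⟩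
  rw [show (V.ι ''ᵁ U).ι ≫ f = (V.ι.isoImage U).inv ≫ U.ι ≫ V.ι ≫ f by simp]
  infer_instance

end GrothLib.UnramLoc9
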