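import Groth.Agent.Lib.LocProp.BaseChangeDescent

/-!
# Unramifiedness descends along every base change
-/

set_option autoImplicit false
set_option linter.style.haveILetI false

namespace GrothLib.UnramLoc9

open AlgebraicGeometry CategoryTheory Limits IsLocalRing AlgebraicGeometry.Scheme GrothLib.LocProp
open scoped TensorProduct

universe u

section ring

variable (A T B : Type u) [CommRing A] [CommRing T] [CommRing B] [Algebra A T] [Algebra A B]

attribute [local instance] Algebra.TensorProduct.rightAlgebra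

theorem kaehler_not_mem_support [Algebra.FiniteType A B] (Q : PrimeSpectrum (T ⊗[A] B))
    (hQ : Q ∉ Module.support (T ⊗[A] B) (Ω[(T ⊗[A] B)⁄T])) :
    PrimeSpectrum.comap (algebraMap B (T ⊗[A] B)) Q ∉ Module.support B (Ω[B⁄A]) := by
  set C := T ⊗[A] B
  set q := PrimeSpectrum.comap (algebraMap B C) Q
  let Bq := Localization.AtPrime q.asIdeal
  let CQ := Localization.AtPrime Q.asIdeal
  have : Q.asIdeal.LiesOver q.asIdeal := ⟨rfl⟩
  let := Localization.AtPrime.algebraOfLiesOver q.asIdeal Q.asIdeal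
  rw [Module.notMem_support_iff] at hQ ⊢
  have e : CQ ⊗[Bq] (Bq ⊗[B] Ω[B⁄A]) ≃ₗ[CQ] CQ ⊗[C] Ω[C⁄T] :=
    TensorProduct.AlgebraTensorModule.cancelBaseChange B Bq CQ CQ _ ≪≫ₗ
      (TensorProduct.AlgebraTensorModule.cancelBaseChange B C CQ CQ _).symm ≪≫ₗ
      TensorProduct.AlgebraTensorModule.congr (.refl CQ CQ)
        (KaehlerDifferential.tensorKaehlerEquiv A T B C)
  have : Subsingleton (CQ ⊗[C] Ω[C⁄T]) :=
    (IsLocalizedModule.iso Q.asIdeal.primeCompl (TensorProduct.mk C CQ Ω[C⁄T] 1)).symm.subsingleton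
  have : Subsingleton (CQ ⊗[Bq] (Bq ⊗[B] Ω[B⁄A])) := e.subsingleton
  let M := Bq ⊗[B] Ω[B⁄A]
  let k := ResidueField Bq
  let K := ResidueField CQ
  haveI : IsLocalHom (algebraMap Bq CQ) := inferInstance
  haveI : Subsingleton (K ⊗[CQ] (CQ ⊗[Bq] M)) := inferInstance
  haveI : Subsingleton (K ⊗[Bq] M) :=
    (TensorProduct.AlgebraTensorModule.cancelBaseChange Bq CQ K K M).symm.toEquiv.subsingleton
  haveI : Subsingleton (K ⊗[k] (k ⊗[Bq] M)) :=
    (TensorProduct.AlgebraTensorModule.cancelBaseChange Bq k K K M).toEquiv.subsingleton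
  haveI : Subsingleton (k ⊗[Bq] M) := Module.FaithfullyFlat.lTensor_reflects_triviality k K _
  haveI : Module.Finite Bq M := inferInstance
  have : Subsingleton M := (IsLocalRing.subsingleton_tensorProduct (R := Bq) (M := M)).mp ‹Subsingleton (k ⊗[Bq] M)›
  exact (IsLocalizedModule.iso q.asIdeal.primeCompl
    (TensorProduct.mk B Bq Ω[B⁄A] 1)).subsingleton

theorem isUnramifiedAt_of_baseChange' [Algebra.FiniteType A B] (Q : Ideal (T ⊗[A] B))
    [Q.IsPrime] (hQ : Algebra.IsUnramifiedAt T Q) :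
    Algebra.IsUnramifiedAt A
      (Q.comap (Algebra.TensorProduct.includeRight : B →ₐ[A] T ⊗[A] B).toRingHom) := by
  have h : (⟨Q, inferInstance⟩ : PrimeSpectrum (T ⊗[A] B)) ∈
      Algebra.unramifiedLocus T (T ⊗[A] B) := hQ
  rw [Algebra.unramifiedLocus_eq_compl_support] at h
  show PrimeSpectrum.comap (Algebra.TensorProduct.includeRight : B →ₐ[A] T ⊗[A] B).toRingHom
    ⟨Q, inferInstance⟩ ∈ Algebra.unramifiedLocus A B
  rw [Algebra.unramifiedLocus_eq_compl_support]
  exact kaehler_not_mem_support A T B _ h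

end ring

variable {X Y Y' : Scheme.{u}}

set_option backward.isDefEq.respectTransparency false in
set_option maxHeartbeats 1000000 in
/-- Unramified at a point of a base change implies unramified at its image. -/
theorem stalkMap_formallyUnramified_of_baseChange (f : X ⟶ Y) [LocallyOfFiniteType f] (g : Y' ⟶ Y)
    (x' : ↑(pullback f g)) (h : ∃ U' : (pullback f g).Opens, x' ∈ U' ∧ FormallyUnramified (U'.ι ≫ pullback.snd f g)) :
    (f.stalkMap (pullback.fst f g x')).hom.FormallyUnramified := by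
  set y' := pullback.snd f g x'
  set x := pullback.fst f g x'
  set T := Y'.presheaf.stalk y'
  have hfx : f x = g y' := by
    rw [← Scheme.Hom.comp_apply, pullback.condition, Scheme.Hom.comp_apply]
  obtain ⟨_, ⟨U, hU, rfl⟩, hxU, -⟩ :=
    Y.isBasis_affineOpens.exists_subset_of_mem_open (Set.mem_univ (f x)) isOpen_univ
  obtain ⟨_, ⟨V, hV, rfl⟩, hxV, hVU⟩ :=
    X.isBasis_affineOpens.exists_subset_of_mem_open hxU (U.2.preimage f.continuous)
  have hfp := f.finiteType_appLE hU hV hVU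
  have hyU : g y' ∈ U := hfx ▸ hxU
  let φT : Γ(Y, U) ⟶ T := Y.presheaf.germ U (g y') hyU ≫ g.stalkMap y'
  let φB : Γ(Y, U) ⟶ Γ(X, V) := f.appLE U V hVU
  let _ : Algebra Γ(Y, U) T := φT.hom.toAlgebra
  let _ : Algebra Γ(Y, U) Γ(X, V) := φB.hom.toAlgebra
  have : Algebra.FiniteType Γ(Y, U) Γ(X, V) := hfp
  set j := Y'.fromSpecStalk y'
  have hjg : Spec.map φT ≫ hU.fromSpec = j ≫ g := by
    rw [← Scheme.SpecMap_stalkMap_fromSpecStalk g, ← hU.fromSpecStalk_eq_fromSpecStalk hyU,
      IsAffineOpen.fromSpecStalk, Spec.map_comp, Category.assoc]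
  have hBf : Spec.map φB ≫ hU.fromSpec = hV.fromSpec ≫ f :=
    IsAffineOpen.SpecMap_appLE_fromSpec f hU hV hVU
  -- the base change to the local ring at `y'`
  have hP := IsPullback.of_right' (IsPullback.of_hasPullback (j ≫ g) f).flip
    (IsPullback.of_hasPullback f g)
  set m := (IsPullback.of_hasPullback f g).lift (pullback.snd (j ≫ g) f)
    (pullback.fst (j ≫ g) f ≫ j) (by
      rw [Category.assoc]; exact (pullback.condition (f := j ≫ g) (g := f)).symm) with hm
  obtain ⟨z, hz1, hz2⟩ := Scheme.exists_preimage_of_isPullback hP x' (closedPoint T)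
    Scheme.fromSpecStalk_closedPoint.symm
  -- the affine chart
  let i : Spec (.of (T ⊗[Γ(Y, U)] Γ(X, V))) ⟶ pullback (j ≫ g) f :=
    (pullbackSpecIso Γ(Y, U) T Γ(X, V)).inv ≫
      pullback.map (Spec.map φT) (Spec.map φB) (j ≫ g) f (𝟙 _) hV.fromSpec hU.fromSpec
        (by rw [hjg, Category.id_comp]) hBf
  have hi2 : i ≫ pullback.fst (j ≫ g) f =
      Spec.map (CommRingCat.ofHom (algebraMap T (T ⊗[Γ(Y, U)] Γ(X, V)))) := by
    simp only [i, Category.assoc, pullback.lift_fst, Category.comp_id]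
    exact pullbackSpecIso_inv_fst' ..
  have hi1 : i ≫ pullback.snd (j ≫ g) f =
      Spec.map (CommRingCat.ofHom (Algebra.TensorProduct.includeRight :
        Γ(X, V) →ₐ[Γ(Y, U)] T ⊗[Γ(Y, U)] Γ(X, V)).toRingHom) ≫ hV.fromSpec := by
    simp only [i, Category.assoc, pullback.lift_snd]
    exact pullbackSpecIso_inv_snd_assoc ..
  have hfst : pullback.snd (j ≫ g) f z = x := by
    have := congrArg (fun k ↦ k z) ((IsPullback.of_hasPullback f g).lift_fst
      (pullback.snd (j ≫ g) f) (pullback.fst (j ≫ g) f ≫ j) (by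
        rw [Category.assoc]; exact (pullback.condition (f := j ≫ g) (g := f)).symm))
    simp only [Scheme.Hom.comp_apply] at this
    rw [← this, hz1]
  obtain ⟨Q, hQ⟩ : ∃ Q, i Q = z := by
    have hr : z ∈ Set.range (pullback.map (Spec.map φT) (Spec.map φB) (j ≫ g) f (𝟙 _) hV.fromSpec
        hU.fromSpec (by rw [hjg, Category.id_comp]) hBf) := by
      rw [Scheme.Pullback.range_map]
      refine ⟨⟨pullback.fst (j ≫ g) f z, rfl⟩, ?_⟩
      show pullback.snd (j ≫ g) f z ∈ Set.range hV.fromSpec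
      rw [hfst, hV.range_fromSpec]
      exact hxV
    obtain ⟨w, hw⟩ := hr
    refine ⟨(pullbackSpecIso Γ(Y, U) T Γ(X, V)).hom w, ?_⟩
    simp only [i, Scheme.Hom.comp_apply]
    rw [← hw]
    congr 1
    rw [← Scheme.Hom.comp_apply, Iso.hom_inv_id]
    rfl
  have hq : PrimeSpectrum.comap (Algebra.TensorProduct.includeRight :
      Γ(X, V) →ₐ[Γ(Y, U)] T ⊗[Γ(Y, U)] Γ(X, V)).toRingHom Q = hV.primeIdealOf ⟨x, hxV⟩ := by
    apply hV.fromSpec.isOpenEmbedding.injective
    rw [hV.fromSpec_primeIdealOf]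
    have := congrArg (fun k ↦ k Q) hi1
    simp only [Scheme.Hom.comp_apply, hQ, hfst] at this
    exact this.symm
  obtain ⟨U₂, hzU, hU₂⟩ := nhd_of_isPullback (W := @FormallyUnramified) hP z (hz1 ▸ h)
  haveI : LocallyOfFiniteType (pullback.fst (j ≫ g) f) := inferInstance
  have hs := (formallyUnramified_nhd_iff (pullback.fst (j ≫ g) f) z).mp ⟨U₂, hzU, hU₂⟩
  rw [← hQ, ← stalkMap_comp_ι_iff RingHom.FormallyUnramified.respectsIso i, hi2] at hs
  have hun : Algebra.IsUnramifiedAt T Q.asIdeal := by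
    let p := Q.comap (algebraMap T (T ⊗[Γ(Y, U)] Γ(X, V)))
    have : Q.asIdeal.LiesOver p.asIdeal := ⟨rfl⟩
    let := Localization.AtPrime.algebraOfLiesOver p.asIdeal Q.asIdeal
    have h1 : Algebra.FormallyUnramified (Localization.AtPrime p.asIdeal)
        (Localization.AtPrime Q.asIdeal) := by
      rw [← RingHom.formallyUnramified_algebraMap]
      exact (RingHom.FormallyUnramified.respectsIso.arrow_mk_iso_iff
        (Scheme.arrowStalkMapSpecIso _ Q)).mp hs
    exact Algebra.FormallyUnramified.comp _ (Localization.AtPrime p.asIdeal) _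
  let p := (hU.primeIdealOf ⟨f x, hVU hxV⟩).asIdeal
  let q := (hV.primeIdealOf ⟨x, hxV⟩).asIdeal
  have : q.LiesOver p :=
    ⟨congr($(IsAffineOpen.comap_primeIdealOf_appLE U hU V hV hVU hxV).1).symm⟩
  let := Localization.AtPrime.algebraOfLiesOver p q
  rw [RingHom.FormallyUnramified.respectsIso.arrow_mk_iso_iff
    (IsAffineOpen.arrowStalkMapIso f U hU V hV hVU hxV)]
  show (algebraMap (Localization.AtPrime p) (Localization.AtPrime q)).FormallyUnramified
  rw [RingHom.formallyUnramified_algebraMap]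
  have h2 := isUnramifiedAt_of_baseChange' Γ(Y, U) T Γ(X, V) Q.asIdeal hun
  have h3 : Algebra.IsUnramifiedAt Γ(Y, U) q := by
    have e : q = _ := congrArg PrimeSpectrum.asIdeal hq.symm
    simp only [e]
    exact h2
  exact Algebra.FormallyUnramified.of_restrictScalars Γ(Y, U) _ _

theorem unramified_nhd_iff_baseChange (f : X ⟶ Y) [LocallyOfFiniteType f] (g : Y' ⟶ Y) (x' : ↑(pullback f g)) :
    (∃ U' : (pullback f g).Opens, x' ∈ U' ∧ FormallyUnramified (U'.ι ≫ pullback.snd f g)) ↔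
      (∃ U : X.Opens, pullback.fst f g x' ∈ U ∧ FormallyUnramified (U.ι ≫ f)) :=
  ⟨fun h => (formallyUnramified_nhd_iff f _).mpr (stalkMap_formallyUnramified_of_baseChange f g x' h),
    nhd_of_isPullback (W := @FormallyUnramified) (IsPullback.of_hasPullback f g) x'⟩

end GrothLib.UnramLoc9
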