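import Groth.Agent.Lib.UnramLoc9.Descend
import Mathlib.AlgebraicGeometry.ZariskisMainTheorem
import Mathlib.AlgebraicGeometry.QuasiAffine
import Mathlib.AlgebraicGeometry.Limits
import Mathlib.RingTheory.Unramified.Field
import Mathlib.RingTheory.Unramified.Finite
import Mathlib.RingTheory.Artinian.Ring
import Mathlib.FieldTheory.IsAlgClosed.AlgebraicClosure
import Mathlib.Algebra.DualNumber

/-!
# Unramified morphisms: fields, geometric fibres, geometric points
-/

set_option autoImplicit false
set_option linter.style.haveILetI false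
set_option backward.isDefEq.respectTransparency false

universe u

open AlgebraicGeometry CategoryTheory Limits TopologicalSpace

noncomputable section

namespace GrothLib.UnramLoc9

variable {X : Scheme.{u}}

section field

variable {k : Type u} [Field k] (p : X ⟶ Spec (CommRingCat.of k))

/-- The algebra structure of the functions on an open of a scheme over a field. -/
abbrev fieldAlg (U : X.Opens) : Algebra k Γ(X, U) :=
  (((p.appLE ⊤ U le_top).hom).comp (Scheme.ΓSpecIso (CommRingCat.of k)).inv.hom).toAlgebra

theorem affine_of_unramified [LocallyOfFiniteType p] [FormallyUnramified p] {U : X.Opens} (hU : IsAffineOpen U) :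
    letI := fieldAlg p U
    Module.Finite k Γ(X, U) ∧ Algebra.FormallyUnramified k Γ(X, U) ∧ _root_.IsReduced Γ(X, U) ∧
      DiscreteTopology (U : Scheme.{u}) := by
  letI := fieldAlg p U
  have h1 : ((p.appLE ⊤ U le_top).hom).FiniteType := p.finiteType_appLE (isAffineOpen_top _) hU le_top
  have h2 : ((p.appLE ⊤ U le_top).hom).FormallyUnramified :=
    HasRingHomProperty.appLE (P := @FormallyUnramified) p inferInstance ⟨⊤, isAffineOpen_top _⟩ ⟨U, hU⟩ le_top
  have hb : Function.Bijective (Scheme.ΓSpecIso (CommRingCat.of k)).inv.hom :=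
    ConcreteCategory.bijective_of_isIso _
  haveI : Algebra.FiniteType k Γ(X, U) := h1.comp (RingHom.FiniteType.of_surjective _ hb.2)
  haveI : Algebra.FormallyUnramified k Γ(X, U) :=
    (RingHom.FormallyUnramified.respectsIso.cancel_left_isIso (Scheme.ΓSpecIso (CommRingCat.of k)).inv
      (p.appLE ⊤ U le_top)).mpr h2
  haveI : Module.Finite k Γ(X, U) := Algebra.FormallyUnramified.finite_of_free k _
  haveI : _root_.IsReduced Γ(X, U) := Algebra.FormallyUnramified.isReduced_of_field k _
  haveI : IsArtinianRing Γ(X, U) := IsArtinianRing.of_finite k _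
  haveI : DiscreteTopology (Spec Γ(X, U)) := inferInstanceAs (DiscreteTopology (PrimeSpectrum _))
  exact ⟨inferInstance, inferInstance, inferInstance, hU.isoSpec.hom.homeomorph.symm.discreteTopology⟩

theorem discrete_of_unramified [LocallyOfFiniteType p] [FormallyUnramified p] :
    DiscreteTopology X ∧ IsReduced X := by
  refine ⟨discreteTopology_iff_isOpen_singleton.mpr fun x => ?_, ?_⟩
  · obtain ⟨U, hU, hxU, -⟩ := exists_isAffineOpen_mem_and_subset (Opens.mem_top x)
    haveI := (affine_of_unramified p hU).2.2.2
    have := U.ι.isOpenEmbedding.isOpenMap {(⟨x, hxU⟩ : (U : Scheme.{u}))} (isOpen_discrete _)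
    rwa [Set.image_singleton] at this
  · refine @AlgebraicGeometry.IsReduced.mk X fun U => ⟨fun s hs => ?_⟩
    refine X.sheaf.eq_of_locally_eq' (fun V : {V : X.affineOpens // V.1 ≤ U} => (V.1.1 : Opens X)) U
      (fun V => homOfLE V.2) (fun z hz => ?_) s 0 fun V => ?_
    · obtain ⟨W, hW, hzW, hle⟩ := exists_isAffineOpen_mem_and_subset hz
      exact Opens.mem_iSup.mpr ⟨⟨⟨W, hW⟩, hle⟩, hzW⟩
    · haveI := (affine_of_unramified p V.1.2).2.2.1
      rw [map_zero]
      exact (hs.map (X.presheaf.map (homOfLE V.2).op).hom).eq_zero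

theorem isAffineOpen_singleton [DiscreteTopology X] (x : X) :
    IsAffineOpen (⟨{x}, isOpen_discrete _⟩ : X.Opens) := by
  obtain ⟨U, hU, hxU, hle⟩ := exists_isAffineOpen_mem_and_subset
    (show x ∈ (⟨{x}, isOpen_discrete _⟩ : X.Opens) from rfl)
  have : U = (⟨{x}, isOpen_discrete _⟩ : X.Opens) :=
    Opens.ext (Set.Subset.antisymm hle fun z hz => Set.mem_singleton_iff.mp hz ▸ hxU)
  exact this ▸ hU

theorem isField_singleton [DiscreteTopology X] [IsReduced X] (x : X) :
    IsField Γ(X, (⟨{x}, isOpen_discrete _⟩ : X.Opens)) := by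
  let U : X.Opens := ⟨{x}, isOpen_discrete _⟩
  haveI : IsReduced (U : Scheme.{u}) := isReduced_of_isOpenImmersion U.ι
  refine ⟨⟨0, 1, fun h => ?_⟩, mul_comm, fun {a} ha => ?_⟩
  · have : X.basicOpen (1 : Γ(X, U)) = ⊥ := by rw [← h]; exact X.basicOpen_zero U
    rw [Scheme.basicOpen_of_isUnit _ isUnit_one] at this
    exact this.le (show x ∈ U from rfl)
  · rw [Ne, ← basicOpen_eq_bot_iff] at ha
    obtain ⟨z, hz⟩ := (Opens.ne_bot_iff_nonempty _).mp ha
    have hzx : z = x := X.basicOpen_le a hz
    have hu : IsUnit a := RingedSpace.isUnit_of_isUnit_germ X.toRingedSpace U a fun w hw => by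
      obtain rfl : w = z := (Set.mem_singleton_iff.mp hw).trans hzx.symm
      exact (Scheme.mem_basicOpen _ _ _ hw).mp hz
    exact hu.exists_right_inv

end field

section geometric

variable {S : Scheme.{u}}

theorem formallyUnramified_of_forall_nhd (f : X ⟶ S)
    (h : ∀ x, ∃ U : X.Opens, x ∈ U ∧ FormallyUnramified (U.ι ≫ f)) : FormallyUnramified f := by
  choose U hxU hU using h
  exact IsZariskiLocalAtSource.of_iSup_eq_top (P := @FormallyUnramified) U
    (eq_top_iff.mpr fun x _ => Opens.mem_iSup.mpr ⟨x, hxU x⟩) hU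

theorem formallyUnramified_nhd_of_reduced_discrete {K : Type u} [Field K] [IsAlgClosed K]
    (q : X ⟶ Spec (CommRingCat.of K)) [LocallyOfFiniteType q] [IsReduced X] [DiscreteTopology X] (z : X) :
    ∃ U : X.Opens, z ∈ U ∧ FormallyUnramified (U.ι ≫ q) := by
  let U : X.Opens := ⟨{z}, isOpen_discrete _⟩
  have hU : IsAffineOpen U := isAffineOpen_singleton z
  refine ⟨U, rfl, ?_⟩
  letI := fieldAlg q U
  letI : Field Γ(X, U) := (isField_singleton z).toField
  have hb : Function.Bijective (Scheme.ΓSpecIso (CommRingCat.of K)).inv.hom :=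
    ConcreteCategory.bijective_of_isIso _
  haveI : Algebra.FiniteType K Γ(X, U) :=
    (q.finiteType_appLE (isAffineOpen_top _) hU le_top).comp (RingHom.FiniteType.of_surjective _ hb.2)
  haveI : Module.Finite K Γ(X, U) := finite_of_finite_type_of_isJacobsonRing K Γ(X, U)
  have hsurj : Function.Surjective (algebraMap K Γ(X, U)) := IsAlgClosed.algebraMap_bijective_of_isIntegral.2
  refine GrothLib.LocProp.exists_nhd_of_appLE (P := @FormallyUnramified)
    (Q := fun f => RingHom.FormallyUnramified f) (fun _ => inferInstance)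
    q ⊤ (isAffineOpen_top _) U hU le_top ?_
  exact RingHom.FormallyUnramified.of_surjective (Function.Surjective.of_comp hsurj)

/-- Unramified iff the geometric fibres are reduced and discrete. -/
theorem unramified_iff_geometric (f : X ⟶ S) [LocallyOfFinitePresentation f] :
    FormallyUnramified f ↔
      ∀ (K : Type u) [Field K] [IsAlgClosed K] (s : Spec (CommRingCat.of K) ⟶ S),
        IsReduced (pullback f s) ∧ DiscreteTopology ↥(pullback f s) := by
  refine ⟨fun h K _ _ s => ?_, fun H => formallyUnramified_of_forall_nhd f fun x => ?_⟩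
  · haveI : FormallyUnramified (pullback.snd f s) := MorphismProperty.pullback_snd _ _ h
    exact ⟨(discrete_of_unramified (pullback.snd f s)).2, (discrete_of_unramified (pullback.snd f s)).1⟩
  · let k := S.residueField (f x)
    let s : Spec (CommRingCat.of (AlgebraicClosure k)) ⟶ S :=
      Spec.map (CommRingCat.ofHom (algebraMap k (AlgebraicClosure k))) ≫ S.fromSpecResidueField (f x)
    obtain ⟨z, hz, -⟩ := Scheme.Pullback.exists_preimage_pullback (f := f) (g := s) x
      (IsLocalRing.closedPoint (AlgebraicClosure k))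
      (by simp only [s, Scheme.Hom.comp_apply]; exact (Scheme.fromSpecResidueField_apply _ _).symm)
    obtain ⟨h1, h2⟩ := H (AlgebraicClosure k) s
    haveI := h1
    haveI := h2
    have := (unramified_nhd_iff_baseChange f s z).mp
      (formallyUnramified_nhd_of_reduced_discrete (pullback.snd f s) z)
    rwa [hz] at this

/-- Fibres disjoint unions of separable extensions give unramified. -/
theorem unramified_of_fibres (f : X ⟶ S) [LocallyOfFiniteType f]
    (H : ∀ s : S, ∃ (ι : Type u) (K : ι → Type u) (_ : ∀ i, Field (K i))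
      (_ : ∀ i, Algebra (S.residueField s) (K i)),
      (∀ i, FiniteDimensional (S.residueField s) (K i) ∧ Algebra.IsSeparable (S.residueField s) (K i)) ∧
        ∃ e : f.fiber s ≅ ∐ (fun i => Spec (CommRingCat.of (K i))),
          e.hom ≫ Sigma.desc (fun i => Spec.map (CommRingCat.ofHom (algebraMap (S.residueField s) (K i)))) =
            f.fiberToSpecResidueField s) :
    FormallyUnramified f := by
  refine formallyUnramified_of_forall_nhd f fun x => ?_
  obtain ⟨ι, K, _, _, hK, e, he⟩ := H (f x)
  haveI : FormallyUnramified (Sigma.desc (fun i =>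
      Spec.map (CommRingCat.ofHom (algebraMap (S.residueField (f x)) (K i))))) := by
    rw [IsZariskiLocalAtSource.iff_of_openCover (P := @FormallyUnramified)
      (sigmaOpenCover fun i => Spec (CommRingCat.of (K i)))]
    intro i
    show FormallyUnramified (Sigma.ι (fun i => Spec (CommRingCat.of (K i))) i ≫ Sigma.desc _)
    rw [Sigma.ι_desc]
    rw [HasRingHomProperty.Spec_iff (P := @FormallyUnramified)]
    haveI := (hK i).2
    haveI : Algebra.FormallyUnramified (S.residueField (f x)) (K i) :=
      Algebra.FormallyUnramified.of_isSeparable _ _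
    exact RingHom.formallyUnramified_algebraMap.mpr this
  haveI h1 : FormallyUnramified (pullback.snd f (S.fromSpecResidueField (f x))) := by
    show FormallyUnramified (f.fiberToSpecResidueField (f x))
    rw [← he]
    exact MorphismProperty.comp_mem _ _ _ (inferInstanceAs (FormallyUnramified e.hom)) inferInstance
  have := (unramified_nhd_iff_baseChange f (S.fromSpecResidueField (f x)) (f.asFiber x)).mp
    ⟨⊤, trivial, MorphismProperty.comp_mem _ _ _ (inferInstanceAs (FormallyUnramified (⊤ : (pullback f _).Opens).ι)) h1⟩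
  rwa [show pullback.fst f (S.fromSpecResidueField (f x)) (f.asFiber x) = x from f.fiberι_asFiber x] at this

/-- Unramified over a field: a disjoint union of spectra of separable extensions. -/
theorem unramified_field_iff (k : Type u) [Field k] (f : X ⟶ Spec (CommRingCat.of k)) :
    (FormallyUnramified f ∧ LocallyOfFiniteType f) ↔
      ∃ (ι : Type u) (K : ι → Type u) (_ : ∀ i, Field (K i)) (_ : ∀ i, Algebra k (K i)),
        (∀ i, FiniteDimensional k (K i) ∧ Algebra.IsSeparable k (K i)) ∧
        ∃ e : X ≅ ∐ (fun i => Spec (CommRingCat.of (K i))),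
          e.hom ≫ Sigma.desc (fun i => Spec.map (CommRingCat.ofHom (algebraMap k (K i)))) = f := by
  constructor
  · rintro ⟨h1, h2⟩
    obtain ⟨hd, hr⟩ := discrete_of_unramified f
    haveI := hd; haveI := hr
    let U : X → X.Opens := fun x => ⟨{x}, isOpen_discrete _⟩
    have hU : ∀ x, IsAffineOpen (U x) := fun x => isAffineOpen_singleton x
    let K : X → Type u := fun x => Γ(X, U x)
    letI : ∀ x, Field (K x) := fun x => (isField_singleton x).toField
    letI : ∀ x, Algebra k (K x) := fun x => fieldAlg f (U x)
    refine ⟨X, K, inferInstance, inferInstance, fun x => ?_, ?_⟩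
    · obtain ⟨ha, hb, -, -⟩ := affine_of_unramified f (hU x)
      haveI : Module.Finite k (K x) := ha
      haveI : Algebra.FormallyUnramified k (K x) := hb
      exact ⟨inferInstance, Algebra.FormallyUnramified.isSeparable k (K x)⟩
    let d : (∐ fun x => Spec (CommRingCat.of (K x))) ⟶ X := Sigma.desc fun x => (hU x).fromSpec
    haveI : IsOpenImmersion d := isOpenImmersion_sigmaDesc _ _ fun x y hxy => by
      show Disjoint (Set.range (hU x).fromSpec) (Set.range (hU y).fromSpec)
      rw [(hU x).range_fromSpec, (hU y).range_fromSpec]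
      exact Set.disjoint_singleton.mpr hxy
    haveI : Surjective d := ⟨fun x => by
      have hx : x ∈ Set.range (hU x).fromSpec := by rw [(hU x).range_fromSpec]; rfl
      obtain ⟨z, hz⟩ := hx
      refine ⟨Sigma.ι (fun x => Spec (CommRingCat.of (K x))) x z, ?_⟩
      rw [← Scheme.Hom.comp_apply, Sigma.ι_desc]
      exact hz⟩
    haveI : IsIso d := (isIso_iff_isOpenImmersion_and_surjective d).mpr ⟨inferInstance, inferInstance⟩
    refine ⟨(asIso d).symm, ?_⟩
    rw [Iso.symm_hom, asIso_inv, IsIso.inv_comp_eq]
    refine Sigma.hom_ext _ _ fun x => ?_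
    rw [Sigma.ι_desc, Sigma.ι_desc_assoc]
    rw [← IsAffineOpen.SpecMap_appLE_fromSpec f (isAffineOpen_top _) (hU x) (le_top : U x ≤ f ⁻¹ᵁ ⊤)]
    show Spec.map (CommRingCat.ofHom (algebraMap k (K x))) = _
    rw [show CommRingCat.ofHom (algebraMap k (K x)) =
      (Scheme.ΓSpecIso (CommRingCat.of k)).inv ≫ f.appLE ⊤ (U x) le_top from rfl, Spec.map_comp,
      IsAffineOpen.fromSpec_top, Scheme.isoSpec_Spec_inv]
  · rintro ⟨ι, K, _, _, hK, e, rfl⟩
    haveI : FormallyUnramified (Sigma.desc (fun i => Spec.map (CommRingCat.ofHom (algebraMap k (K i))))) := by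
      rw [IsZariskiLocalAtSource.iff_of_openCover (P := @FormallyUnramified)
        (sigmaOpenCover fun i => Spec (CommRingCat.of (K i)))]
      intro i
      show FormallyUnramified (Sigma.ι (fun i => Spec (CommRingCat.of (K i))) i ≫ Sigma.desc _)
      rw [Sigma.ι_desc, HasRingHomProperty.Spec_iff (P := @FormallyUnramified)]
      haveI := (hK i).2
      haveI : Algebra.FormallyUnramified k (K i) := Algebra.FormallyUnramified.of_isSeparable _ _
      exact RingHom.formallyUnramified_algebraMap.mpr this
    haveI : LocallyOfFiniteType (Sigma.desc (fun i => Spec.map (CommRingCat.ofHom (algebraMap k (K i))))) := by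
      rw [IsZariskiLocalAtSource.iff_of_openCover (P := @LocallyOfFiniteType)
        (sigmaOpenCover fun i => Spec (CommRingCat.of (K i)))]
      intro i
      show LocallyOfFiniteType (Sigma.ι (fun i => Spec (CommRingCat.of (K i))) i ≫ Sigma.desc _)
      rw [Sigma.ι_desc, HasRingHomProperty.Spec_iff (P := @LocallyOfFiniteType)]
      haveI := (hK i).1
      exact (RingHom.finiteType_algebraMap).mpr inferInstance
    exact ⟨MorphismProperty.comp_mem _ _ _ (inferInstanceAs (FormallyUnramified e.hom)) inferInstance,
      inferInstance⟩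

/-- Proper unramified and injective on geometric points: closed immersion. -/
theorem isClosedImmersion_of_injective {Y : Scheme.{u}} (f : X ⟶ Y) [IsProper f] [FormallyUnramified f]
    (hinj : ∀ (Ω : Type u) [Field Ω] [IsAlgClosed Ω],
      Function.Injective (fun g : Spec (CommRingCat.of Ω) ⟶ X => g ≫ f)) :
    IsClosedImmersion f := by
  haveI : Surjective (pullback.diagonal f) := ⟨fun z => by
    let k := (pullback f f).residueField z
    let w : Spec (CommRingCat.of (AlgebraicClosure k)) ⟶ pullback f f :=
      Spec.map (CommRingCat.ofHom (algebraMap k (AlgebraicClosure k))) ≫ (pullback f f).fromSpecResidueField z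
    have heq : w ≫ pullback.fst f f = w ≫ pullback.snd f f := hinj (AlgebraicClosure k) (by
      simp only [Category.assoc, pullback.condition])
    have hw : (w ≫ pullback.fst f f) ≫ pullback.diagonal f = w := by
      apply pullback.hom_ext
      · simp
      · simpa using heq
    refine ⟨(w ≫ pullback.fst f f) (IsLocalRing.closedPoint _), ?_⟩
    rw [← Scheme.Hom.comp_apply, hw]
    simp only [w, Scheme.Hom.comp_apply]; exact Scheme.fromSpecResidueField_apply _ _⟩
  haveI : IsIso (pullback.diagonal f) :=
    (isIso_iff_isOpenImmersion_and_surjective _).mpr ⟨inferInstance, inferInstance⟩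
  haveI : Mono f := (pullback.isIso_diagonal_iff f).mp inferInstance
  exact (IsClosedImmersion.iff_isProper_and_mono _).mpr ⟨inferInstance, inferInstance⟩

/-- Finite iff proper with quasi-affine preimages of affines. -/
theorem isFinite_iff_proper_quasiAffine {Y : Scheme.{u}} (f : X ⟶ Y) :
    IsFinite f ↔ IsProper f ∧ (QuasiCompact f ∧ ∀ V : Y.Opens, IsAffineOpen V → (f ⁻¹ᵁ V : Scheme.{u}).IsQuasiAffine) := by
  constructor
  · intro h
    refine ⟨inferInstance, inferInstance, fun V hV => ?_⟩
    haveI : IsAffine (f ⁻¹ᵁ V : Scheme.{u}) := hV.preimage f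
    infer_instance
  · rintro ⟨hp, -, hq⟩
    refine IsFinite.iff_isProper_and_isAffineHom.mpr ⟨hp, ⟨fun V hV => ?_⟩⟩
    haveI := hq V hV
    haveI : IsAffine (V : Scheme.{u}) := hV
    let W := f ⁻¹ᵁ V
    let ρ : Spec Γ((W : Scheme.{u}), ⊤) ⟶ (V : Scheme.{u}) :=
      Spec.map (f ∣_ V).appTop ≫ (V : Scheme.{u}).isoSpec.inv
    have hρ : (W : Scheme.{u}).toSpecΓ ≫ ρ = f ∣_ V := by
      simp only [ρ]
      rw [← Category.assoc, ← Scheme.toSpecΓ_naturality, Category.assoc, ← Scheme.isoSpec_hom, Iso.hom_inv_id,
        Category.comp_id]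
    haveI : IsProper ((W : Scheme.{u}).toSpecΓ ≫ ρ) := by
      rw [hρ]; exact IsZariskiLocalAtTarget.restrict hp V
    haveI : IsProper (W : Scheme.{u}).toSpecΓ := IsProper.of_comp _ ρ
    haveI : IsClosedImmersion (W : Scheme.{u}).toSpecΓ :=
      (IsClosedImmersion.iff_isProper_and_mono _).mpr ⟨inferInstance, inferInstance⟩
    show IsAffine (W : Scheme.{u})
    exact isAffine_of_isAffineHom (W : Scheme.{u}).toSpecΓ

end geometric

end GrothLib.UnramLoc9
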