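import Groth.Agent.Lib.LocProp.Stalk
import Mathlib.AlgebraicGeometry.Morphisms.Etale
import Mathlib.AlgebraicGeometry.Morphisms.Smooth
import Mathlib.RingTheory.Unramified.LocalStructure

/-!
# Standard smooth and standard étale charts over a given affine open of the base
-/

set_option autoImplicit false
set_option linter.style.haveILetI false
set_option backward.isDefEq.respectTransparency false

universe u

namespace GrothLib.UnramLoc9

open AlgebraicGeometry CategoryTheory Limits GrothLib.LocProp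

variable {X S : Scheme.{u}}

theorem appLE_prop_of_restrict {P : MorphismProperty Scheme.{u}}
    {Q : ∀ {R R' : Type u} [CommRing R] [CommRing R'], (R →+* R') → Prop} [HasRingHomProperty P Q]
    (f : X ⟶ S) {U : X.Opens} (hU : IsAffineOpen U) {V : S.Opens} (hV : IsAffineOpen V)
    (e : U ≤ f ⁻¹ᵁ V) (h : P (U.ι ≫ f)) : Q (f.appLE V U e).hom := by
  haveI : IsAffine (U : Scheme.{u}) := hU
  have e' : (⊤ : (U : Scheme.{u}).Opens) ≤ (U.ι ≫ f) ⁻¹ᵁ V := fun z _ => e z.2
  have h1 := HasRingHomProperty.appLE (P := P) (U.ι ≫ f) h ⟨V, hV⟩ ⟨⊤, isAffineOpen_top _⟩ e'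
  have h2 : ((U.ι ≫ f).appLE V ⊤ e') = f.appLE V U e ≫ U.ι.appLE U ⊤ U.ι_preimage_self.ge :=
    (Scheme.Hom.appLE_comp_appLE _ _ _ _ _ _ _).symm
  simp only at h1
  rw [h2, CommRingCat.hom_comp] at h1
  haveI : IsIso (U.ι.appLE U ⊤ U.ι_preimage_self.ge) := by
    rw [show U.ι.appLE U ⊤ U.ι_preimage_self.ge = U.topIso.inv by simp [Scheme.Opens.topIso]; rfl]
    infer_instance
  exact ((HasRingHomProperty.isLocal_ringHomProperty P).respectsIso.cancel_right_isIso
    (f.appLE V U e) _).mp h1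

theorem exists_affine_piece (f : X ⟶ S) (x : X) {V : S.Opens} (hxV : f x ∈ V)
    {P : MorphismProperty Scheme.{u}} [P.IsStableUnderComposition]
    (hopen : ∀ {A B : Scheme.{u}} (j : A ⟶ B) [IsOpenImmersion j], P j)
    (h : ∃ W : X.Opens, x ∈ W ∧ P (W.ι ≫ f)) :
    ∃ U : X.Opens, IsAffineOpen U ∧ x ∈ U ∧ U ≤ f ⁻¹ᵁ V ∧ P (U.ι ≫ f) := by
  obtain ⟨W, hxW, hW⟩ := h
  obtain ⟨U, hU, hxU, hle⟩ := exists_isAffineOpen_mem_and_subset
    (show x ∈ W ⊓ f ⁻¹ᵁ V from ⟨hxW, hxV⟩)
  refine ⟨U, hU, hxU, fun z hz => (hle hz).2, ?_⟩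
  rw [show U.ι ≫ f = X.homOfLE (fun z hz => (hle hz).1) ≫ W.ι ≫ f by simp]
  exact P.comp_mem _ _ (hopen _) hW

/-- Smooth near a point: a standard smooth chart over any affine neighbourhood of the image. -/
theorem smooth_nhd_iff_chart (f : X ⟶ S) (x : X) (V : S.Opens) (hV : IsAffineOpen V) (hxV : f x ∈ V) :
    (∃ W : X.Opens, x ∈ W ∧ Smooth (W.ι ≫ f)) ↔
      ∃ (U : X.Opens) (_ : IsAffineOpen U) (_ : x ∈ U) (e : U ≤ f ⁻¹ᵁ V),
        (f.appLE V U e).hom.IsStandardSmooth := by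
  constructor
  · intro h
    obtain ⟨U, hU, hxU, hUV, hsm⟩ := exists_affine_piece f x hxV (P := @Smooth) (fun _ => inferInstance) h
    have h1 : (f.appLE V U hUV).hom.Smooth := appLE_prop_of_restrict (P := @Smooth) f hU hV hUV hsm
    rw [RingHom.smooth_iff_locally_isStandardSmooth] at h1
    obtain ⟨s, hs, hstd⟩ := h1
    have hmem : x ∈ ⨆ r : s, X.basicOpen (r : Γ(X, U)) := by
      rw [hU.iSup_basicOpen_eq_self_iff.mpr hs]; exact hxU
    obtain ⟨⟨r, hr⟩, hxr⟩ := TopologicalSpace.Opens.mem_iSup.mp hmem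
    refine ⟨X.basicOpen r, hU.basicOpen r, hxr, (X.basicOpen_le r).trans hUV, ?_⟩
    haveI := hU.isLocalization_basicOpen r
    have h2 := hstd r hr
    let ψ : Localization.Away r ≃ₐ[Γ(X, U)] Γ(X, X.basicOpen r) :=
      IsLocalization.algEquiv (Submonoid.powers r) _ _
    have h3 : (f.appLE V (X.basicOpen r) ((X.basicOpen_le r).trans hUV)).hom =
        ψ.toRingEquiv.toRingHom.comp ((algebraMap Γ(X, U) (Localization.Away r)).comp (f.appLE V U hUV).hom) := by
      rw [← RingHom.comp_assoc, show ψ.toRingEquiv.toRingHom.comp (algebraMap Γ(X, U) (Localization.Away r)) =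
          algebraMap Γ(X, U) Γ(X, X.basicOpen r) from ψ.toAlgHom.comp_algebraMap]
      rw [← Scheme.Hom.appLE_map f hUV (homOfLE (X.basicOpen_le r)).op, CommRingCat.hom_comp]
      rfl
    rw [h3]
    exact RingHom.isStandardSmooth_respectsIso.1 _ _ h2
  · rintro ⟨U, hU, hxU, e, h⟩
    exact ⟨U, hxU, exists_nhd_of_appLE (P := @Smooth) (fun _ => inferInstance) f V hV U hU e
      (RingHom.IsStandardSmooth.smooth h)⟩

/-- Étale near a point: a standard étale chart over any affine neighbourhood of the image. -/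
theorem etale_nhd_iff_chart (f : X ⟶ S) (x : X) (V : S.Opens) (hV : IsAffineOpen V) (hxV : f x ∈ V) :
    (∃ W : X.Opens, x ∈ W ∧ Etale (W.ι ≫ f)) ↔
      ∃ (U : X.Opens) (_ : IsAffineOpen U) (_ : x ∈ U) (e : U ≤ f ⁻¹ᵁ V),
        letI := (f.appLE V U e).hom.toAlgebra
        Algebra.IsStandardEtale Γ(S, V) Γ(X, U) := by
  constructor
  · intro h
    obtain ⟨U, hU, hxU, hUV, het⟩ := exists_affine_piece f x hxV (P := @Etale) (fun _ => inferInstance) h
    have h1 : (f.appLE V U hUV).hom.Etale := appLE_prop_of_restrict (P := @Etale) f hU hV hUV het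
    letI : Algebra Γ(S, V) Γ(X, U) := (f.appLE V U hUV).hom.toAlgebra
    haveI : Algebra.Etale Γ(S, V) Γ(X, U) := h1
    let Q : Ideal Γ(X, U) := RingHom.ker (X.evaluation U x hxU).hom
    haveI : Q.IsPrime := RingHom.ker_isPrime _
    obtain ⟨r, hrQ, hr⟩ := Algebra.IsEtaleAt.exists_isStandardEtale (R := Γ(S, V)) Q
    have hpD : x ∈ X.basicOpen r := by
      by_contra h
      exact hrQ ((X.evaluation_eq_zero_iff_notMem_basicOpen x hxU r).2 h)
    have e : X.basicOpen r ≤ f ⁻¹ᵁ V := (X.basicOpen_le r).trans hUV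
    refine ⟨X.basicOpen r, hU.basicOpen r, hpD, e, ?_⟩
    letI : Algebra Γ(S, V) Γ(X, X.basicOpen r) := (f.appLE V (X.basicOpen r) e).hom.toAlgebra
    haveI : IsScalarTower Γ(S, V) Γ(X, U) Γ(X, X.basicOpen r) := by
      refine IsScalarTower.of_algebraMap_eq fun a => ?_
      change f.appLE V (X.basicOpen r) e a =
        X.presheaf.map (homOfLE (X.basicOpen_le r)).op (f.appLE V U hUV a)
      rw [← CommRingCat.comp_apply, Scheme.Hom.appLE_map]
    haveI := hU.isLocalization_basicOpen r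
    exact Algebra.IsStandardEtale.of_equiv
      ((IsLocalization.algEquiv (Submonoid.powers r) (Localization.Away r)
        Γ(X, X.basicOpen r)).restrictScalars Γ(S, V))
  · rintro ⟨U, hU, hxU, e, h⟩
    letI := (f.appLE V U e).hom.toAlgebra
    haveI := h
    exact ⟨U, hxU, exists_nhd_of_appLE (P := @Etale) (fun _ => inferInstance) f V hV U hU e
      (show Algebra.Etale Γ(S, V) Γ(X, U) from inferInstance)⟩

end GrothLib.UnramLoc9
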